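/-
helper18: involutions of 2F4(2), data: the main check. Generated.
-/
import Cfsg.Agent.Lib.Helper18.TitsU.Cols

set_option autoImplicit false
set_option maxRecDepth 1000000

namespace Cfsg.Agent.Lib.Helper18.Tits

theorem invChk_eq : invChk = true := by decide +kernel

end Cfsg.Agent.Lib.Helper18.Tits
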