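/-
helper18: involutions of 2F4(2), data: the packed columns are the columns of the root elements, part 0. Generated.
-/
import Cfsg.Agent.Lib.Helper18.Tits4
import Cfsg.Agent.Lib.Helper18.TitsU.Cols

set_option autoImplicit false
set_option maxRecDepth 1000000

namespace Cfsg.Agent.Lib.Helper18.Tits

open Cfsg.Lie

theorem pc33_sem : ∀ i j : chevF4.Idx,
    chevF4.xMat (ZMod 2) ⟨33, by decide⟩ 1 j i = unpack (pc33.getD (idxNat i) 0) j := by decide +kernel

theorem pc24_sem : ∀ i j : chevF4.Idx,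
    chevF4.xMat (ZMod 2) ⟨24, by decide⟩ 1 j i = unpack (pc24.getD (idxNat i) 0) j := by decide +kernel

theorem pc27_sem : ∀ i j : chevF4.Idx,
    chevF4.xMat (ZMod 2) ⟨27, by decide⟩ 1 j i = unpack (pc27.getD (idxNat i) 0) j := by decide +kernel

theorem pc25_sem : ∀ i j : chevF4.Idx,
    chevF4.xMat (ZMod 2) ⟨25, by decide⟩ 1 j i = unpack (pc25.getD (idxNat i) 0) j := by decide +kernel

theorem pc28_sem : ∀ i j : chevF4.Idx,
    chevF4.xMat (ZMod 2) ⟨28, by decide⟩ 1 j i = unpack (pc28.getD (idxNat i) 0) j := by decide +kernel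

theorem pc30_sem : ∀ i j : chevF4.Idx,
    chevF4.xMat (ZMod 2) ⟨30, by decide⟩ 1 j i = unpack (pc30.getD (idxNat i) 0) j := by decide +kernel

theorem pc34_sem : ∀ i j : chevF4.Idx,
    chevF4.xMat (ZMod 2) ⟨34, by decide⟩ 1 j i = unpack (pc34.getD (idxNat i) 0) j := by decide +kernel

theorem pc26_sem : ∀ i j : chevF4.Idx,
    chevF4.xMat (ZMod 2) ⟨26, by decide⟩ 1 j i = unpack (pc26.getD (idxNat i) 0) j := by decide +kernel

end Cfsg.Agent.Lib.Helper18.Tits
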