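/-
helper18: involutions of 2F4(2), data: the packed columns are the columns of the root elements, part 1. Generated.
-/
import Cfsg.Agent.Lib.Helper18.Tits4
import Cfsg.Agent.Lib.Helper18.TitsU.Cols

set_option autoImplicit false
set_option maxRecDepth 1000000

namespace Cfsg.Agent.Lib.Helper18.Tits

open Cfsg.Lie

theorem pc36_sem : ∀ i j : chevF4.Idx,
    chevF4.xMat (ZMod 2) ⟨36, by decide⟩ 1 j i = unpack (pc36.getD (idxNat i) 0) j := by decide +kernel

theorem pc42_sem : ∀ i j : chevF4.Idx,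
    chevF4.xMat (ZMod 2) ⟨42, by decide⟩ 1 j i = unpack (pc42.getD (idxNat i) 0) j := by decide +kernel

theorem pc37_sem : ∀ i j : chevF4.Idx,
    chevF4.xMat (ZMod 2) ⟨37, by decide⟩ 1 j i = unpack (pc37.getD (idxNat i) 0) j := by decide +kernel

theorem pc32_sem : ∀ i j : chevF4.Idx,
    chevF4.xMat (ZMod 2) ⟨32, by decide⟩ 1 j i = unpack (pc32.getD (idxNat i) 0) j := by decide +kernel

theorem pc35_sem : ∀ i j : chevF4.Idx,
    chevF4.xMat (ZMod 2) ⟨35, by decide⟩ 1 j i = unpack (pc35.getD (idxNat i) 0) j := by decide +kernel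

theorem pc31_sem : ∀ i j : chevF4.Idx,
    chevF4.xMat (ZMod 2) ⟨31, by decide⟩ 1 j i = unpack (pc31.getD (idxNat i) 0) j := by decide +kernel

theorem pc40_sem : ∀ i j : chevF4.Idx,
    chevF4.xMat (ZMod 2) ⟨40, by decide⟩ 1 j i = unpack (pc40.getD (idxNat i) 0) j := by decide +kernel

theorem pc46_sem : ∀ i j : chevF4.Idx,
    chevF4.xMat (ZMod 2) ⟨46, by decide⟩ 1 j i = unpack (pc46.getD (idxNat i) 0) j := by decide +kernel

end Cfsg.Agent.Lib.Helper18.Tits
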