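/-
helper18: involutions of 2F4(2), data: the packed columns are the columns of the root elements, part 2. Generated.
-/
import Cfsg.Agent.Lib.Helper18.Tits4
import Cfsg.Agent.Lib.Helper18.TitsU.Cols

set_option autoImplicit false
set_option maxRecDepth 1000000

namespace Cfsg.Agent.Lib.Helper18.Tits

open Cfsg.Lie

theorem pc38_sem : ∀ i j : chevF4.Idx,
    chevF4.xMat (ZMod 2) ⟨38, by decide⟩ 1 j i = unpack (pc38.getD (idxNat i) 0) j := by decide +kernel

theorem pc43_sem : ∀ i j : chevF4.Idx,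
    chevF4.xMat (ZMod 2) ⟨43, by decide⟩ 1 j i = unpack (pc43.getD (idxNat i) 0) j := by decide +kernel

theorem pc29_sem : ∀ i j : chevF4.Idx,
    chevF4.xMat (ZMod 2) ⟨29, by decide⟩ 1 j i = unpack (pc29.getD (idxNat i) 0) j := by decide +kernel

theorem pc41_sem : ∀ i j : chevF4.Idx,
    chevF4.xMat (ZMod 2) ⟨41, by decide⟩ 1 j i = unpack (pc41.getD (idxNat i) 0) j := by decide +kernel

theorem pc44_sem : ∀ i j : chevF4.Idx,
    chevF4.xMat (ZMod 2) ⟨44, by decide⟩ 1 j i = unpack (pc44.getD (idxNat i) 0) j := by decide +kernel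

theorem pc47_sem : ∀ i j : chevF4.Idx,
    chevF4.xMat (ZMod 2) ⟨47, by decide⟩ 1 j i = unpack (pc47.getD (idxNat i) 0) j := by decide +kernel

theorem pc39_sem : ∀ i j : chevF4.Idx,
    chevF4.xMat (ZMod 2) ⟨39, by decide⟩ 1 j i = unpack (pc39.getD (idxNat i) 0) j := by decide +kernel

theorem pc45_sem : ∀ i j : chevF4.Idx,
    chevF4.xMat (ZMod 2) ⟨45, by decide⟩ 1 j i = unpack (pc45.getD (idxNat i) 0) j := by decide +kernel

end Cfsg.Agent.Lib.Helper18.Tits
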