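/-
helper18: involutions of 2F4(2), data: kernel checks of the tables, part 0. Generated.
-/
import Cfsg.Agent.Lib.Helper18.TitsU.Cols

set_option autoImplicit false
set_option maxRecDepth 1000000

namespace Cfsg.Agent.Lib.Helper18.Tits

theorem pt33_0_chk : chkTab2 pc33 pt33_0 (7 * 0) = true := by decide +kernel
theorem pt33_1_chk : chkTab2 pc33 pt33_1 (7 * 1) = true := by decide +kernel
theorem pt33_2_chk : chkTab2 pc33 pt33_2 (7 * 2) = true := by decide +kernel
theorem pt33_3_chk : chkTab2 pc33 pt33_3 (7 * 3) = true := by decide +kernel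
theorem pt33_4_chk : chkTab2 pc33 pt33_4 (7 * 4) = true := by decide +kernel
theorem pt33_5_chk : chkTab2 pc33 pt33_5 (7 * 5) = true := by decide +kernel
theorem pt33_6_chk : chkTab2 pc33 pt33_6 (7 * 6) = true := by decide +kernel
theorem pt33_7_chk : chkTab2 pc33 pt33_7 (7 * 7) = true := by decide +kernel

theorem pt24_0_chk : chkTab2 pc24 pt24_0 (7 * 0) = true := by decide +kernel
theorem pt24_1_chk : chkTab2 pc24 pt24_1 (7 * 1) = true := by decide +kernel
theorem pt24_2_chk : chkTab2 pc24 pt24_2 (7 * 2) = true := by decide +kernel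
theorem pt24_3_chk : chkTab2 pc24 pt24_3 (7 * 3) = true := by decide +kernel
theorem pt24_4_chk : chkTab2 pc24 pt24_4 (7 * 4) = true := by decide +kernel
theorem pt24_5_chk : chkTab2 pc24 pt24_5 (7 * 5) = true := by decide +kernel
theorem pt24_6_chk : chkTab2 pc24 pt24_6 (7 * 6) = true := by decide +kernel
theorem pt24_7_chk : chkTab2 pc24 pt24_7 (7 * 7) = true := by decide +kernel

theorem pt27_0_chk : chkTab2 pc27 pt27_0 (7 * 0) = true := by decide +kernel
theorem pt27_1_chk : chkTab2 pc27 pt27_1 (7 * 1) = true := by decide +kernel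
theorem pt27_2_chk : chkTab2 pc27 pt27_2 (7 * 2) = true := by decide +kernel
theorem pt27_3_chk : chkTab2 pc27 pt27_3 (7 * 3) = true := by decide +kernel
theorem pt27_4_chk : chkTab2 pc27 pt27_4 (7 * 4) = true := by decide +kernel
theorem pt27_5_chk : chkTab2 pc27 pt27_5 (7 * 5) = true := by decide +kernel
theorem pt27_6_chk : chkTab2 pc27 pt27_6 (7 * 6) = true := by decide +kernel
theorem pt27_7_chk : chkTab2 pc27 pt27_7 (7 * 7) = true := by decide +kernel

theorem pt25_0_chk : chkTab2 pc25 pt25_0 (7 * 0) = true := by decide +kernel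
theorem pt25_1_chk : chkTab2 pc25 pt25_1 (7 * 1) = true := by decide +kernel
theorem pt25_2_chk : chkTab2 pc25 pt25_2 (7 * 2) = true := by decide +kernel
theorem pt25_3_chk : chkTab2 pc25 pt25_3 (7 * 3) = true := by decide +kernel
theorem pt25_4_chk : chkTab2 pc25 pt25_4 (7 * 4) = true := by decide +kernel
theorem pt25_5_chk : chkTab2 pc25 pt25_5 (7 * 5) = true := by decide +kernel
theorem pt25_6_chk : chkTab2 pc25 pt25_6 (7 * 6) = true := by decide +kernel
theorem pt25_7_chk : chkTab2 pc25 pt25_7 (7 * 7) = true := by decide +kernel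

theorem pt28_0_chk : chkTab2 pc28 pt28_0 (7 * 0) = true := by decide +kernel
theorem pt28_1_chk : chkTab2 pc28 pt28_1 (7 * 1) = true := by decide +kernel
theorem pt28_2_chk : chkTab2 pc28 pt28_2 (7 * 2) = true := by decide +kernel
theorem pt28_3_chk : chkTab2 pc28 pt28_3 (7 * 3) = true := by decide +kernel
theorem pt28_4_chk : chkTab2 pc28 pt28_4 (7 * 4) = true := by decide +kernel
theorem pt28_5_chk : chkTab2 pc28 pt28_5 (7 * 5) = true := by decide +kernel
theorem pt28_6_chk : chkTab2 pc28 pt28_6 (7 * 6) = true := by decide +kernel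
theorem pt28_7_chk : chkTab2 pc28 pt28_7 (7 * 7) = true := by decide +kernel

theorem pt30_0_chk : chkTab2 pc30 pt30_0 (7 * 0) = true := by decide +kernel
theorem pt30_1_chk : chkTab2 pc30 pt30_1 (7 * 1) = true := by decide +kernel
theorem pt30_2_chk : chkTab2 pc30 pt30_2 (7 * 2) = true := by decide +kernel
theorem pt30_3_chk : chkTab2 pc30 pt30_3 (7 * 3) = true := by decide +kernel
theorem pt30_4_chk : chkTab2 pc30 pt30_4 (7 * 4) = true := by decide +kernel
theorem pt30_5_chk : chkTab2 pc30 pt30_5 (7 * 5) = true := by decide +kernel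
theorem pt30_6_chk : chkTab2 pc30 pt30_6 (7 * 6) = true := by decide +kernel
theorem pt30_7_chk : chkTab2 pc30 pt30_7 (7 * 7) = true := by decide +kernel

theorem pt34_0_chk : chkTab2 pc34 pt34_0 (7 * 0) = true := by decide +kernel
theorem pt34_1_chk : chkTab2 pc34 pt34_1 (7 * 1) = true := by decide +kernel
theorem pt34_2_chk : chkTab2 pc34 pt34_2 (7 * 2) = true := by decide +kernel
theorem pt34_3_chk : chkTab2 pc34 pt34_3 (7 * 3) = true := by decide +kernel
theorem pt34_4_chk : chkTab2 pc34 pt34_4 (7 * 4) = true := by decide +kernel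
theorem pt34_5_chk : chkTab2 pc34 pt34_5 (7 * 5) = true := by decide +kernel
theorem pt34_6_chk : chkTab2 pc34 pt34_6 (7 * 6) = true := by decide +kernel
theorem pt34_7_chk : chkTab2 pc34 pt34_7 (7 * 7) = true := by decide +kernel

theorem pt26_0_chk : chkTab2 pc26 pt26_0 (7 * 0) = true := by decide +kernel
theorem pt26_1_chk : chkTab2 pc26 pt26_1 (7 * 1) = true := by decide +kernel
theorem pt26_2_chk : chkTab2 pc26 pt26_2 (7 * 2) = true := by decide +kernel
theorem pt26_3_chk : chkTab2 pc26 pt26_3 (7 * 3) = true := by decide +kernel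
theorem pt26_4_chk : chkTab2 pc26 pt26_4 (7 * 4) = true := by decide +kernel
theorem pt26_5_chk : chkTab2 pc26 pt26_5 (7 * 5) = true := by decide +kernel
theorem pt26_6_chk : chkTab2 pc26 pt26_6 (7 * 6) = true := by decide +kernel
theorem pt26_7_chk : chkTab2 pc26 pt26_7 (7 * 7) = true := by decide +kernel

end Cfsg.Agent.Lib.Helper18.Tits
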