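/-
helper18: involutions of 2F4(2), data: kernel checks of the tables, part 1. Generated.
-/
import Cfsg.Agent.Lib.Helper18.TitsU.Cols

set_option autoImplicit false
set_option maxRecDepth 1000000

namespace Cfsg.Agent.Lib.Helper18.Tits

theorem pt36_0_chk : chkTab2 pc36 pt36_0 (7 * 0) = true := by decide +kernel
theorem pt36_1_chk : chkTab2 pc36 pt36_1 (7 * 1) = true := by decide +kernel
theorem pt36_2_chk : chkTab2 pc36 pt36_2 (7 * 2) = true := by decide +kernel
theorem pt36_3_chk : chkTab2 pc36 pt36_3 (7 * 3) = true := by decide +kernel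
theorem pt36_4_chk : chkTab2 pc36 pt36_4 (7 * 4) = true := by decide +kernel
theorem pt36_5_chk : chkTab2 pc36 pt36_5 (7 * 5) = true := by decide +kernel
theorem pt36_6_chk : chkTab2 pc36 pt36_6 (7 * 6) = true := by decide +kernel
theorem pt36_7_chk : chkTab2 pc36 pt36_7 (7 * 7) = true := by decide +kernel

theorem pt42_0_chk : chkTab2 pc42 pt42_0 (7 * 0) = true := by decide +kernel
theorem pt42_1_chk : chkTab2 pc42 pt42_1 (7 * 1) = true := by decide +kernel
theorem pt42_2_chk : chkTab2 pc42 pt42_2 (7 * 2) = true := by decide +kernel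
theorem pt42_3_chk : chkTab2 pc42 pt42_3 (7 * 3) = true := by decide +kernel
theorem pt42_4_chk : chkTab2 pc42 pt42_4 (7 * 4) = true := by decide +kernel
theorem pt42_5_chk : chkTab2 pc42 pt42_5 (7 * 5) = true := by decide +kernel
theorem pt42_6_chk : chkTab2 pc42 pt42_6 (7 * 6) = true := by decide +kernel
theorem pt42_7_chk : chkTab2 pc42 pt42_7 (7 * 7) = true := by decide +kernel

theorem pt37_0_chk : chkTab2 pc37 pt37_0 (7 * 0) = true := by decide +kernel
theorem pt37_1_chk : chkTab2 pc37 pt37_1 (7 * 1) = true := by decide +kernel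
theorem pt37_2_chk : chkTab2 pc37 pt37_2 (7 * 2) = true := by decide +kernel
theorem pt37_3_chk : chkTab2 pc37 pt37_3 (7 * 3) = true := by decide +kernel
theorem pt37_4_chk : chkTab2 pc37 pt37_4 (7 * 4) = true := by decide +kernel
theorem pt37_5_chk : chkTab2 pc37 pt37_5 (7 * 5) = true := by decide +kernel
theorem pt37_6_chk : chkTab2 pc37 pt37_6 (7 * 6) = true := by decide +kernel
theorem pt37_7_chk : chkTab2 pc37 pt37_7 (7 * 7) = true := by decide +kernel

theorem pt32_0_chk : chkTab2 pc32 pt32_0 (7 * 0) = true := by decide +kernel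
theorem pt32_1_chk : chkTab2 pc32 pt32_1 (7 * 1) = true := by decide +kernel
theorem pt32_2_chk : chkTab2 pc32 pt32_2 (7 * 2) = true := by decide +kernel
theorem pt32_3_chk : chkTab2 pc32 pt32_3 (7 * 3) = true := by decide +kernel
theorem pt32_4_chk : chkTab2 pc32 pt32_4 (7 * 4) = true := by decide +kernel
theorem pt32_5_chk : chkTab2 pc32 pt32_5 (7 * 5) = true := by decide +kernel
theorem pt32_6_chk : chkTab2 pc32 pt32_6 (7 * 6) = true := by decide +kernel
theorem pt32_7_chk : chkTab2 pc32 pt32_7 (7 * 7) = true := by decide +kernel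

theorem pt35_0_chk : chkTab2 pc35 pt35_0 (7 * 0) = true := by decide +kernel
theorem pt35_1_chk : chkTab2 pc35 pt35_1 (7 * 1) = true := by decide +kernel
theorem pt35_2_chk : chkTab2 pc35 pt35_2 (7 * 2) = true := by decide +kernel
theorem pt35_3_chk : chkTab2 pc35 pt35_3 (7 * 3) = true := by decide +kernel
theorem pt35_4_chk : chkTab2 pc35 pt35_4 (7 * 4) = true := by decide +kernel
theorem pt35_5_chk : chkTab2 pc35 pt35_5 (7 * 5) = true := by decide +kernel
theorem pt35_6_chk : chkTab2 pc35 pt35_6 (7 * 6) = true := by decide +kernel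
theorem pt35_7_chk : chkTab2 pc35 pt35_7 (7 * 7) = true := by decide +kernel

theorem pt31_0_chk : chkTab2 pc31 pt31_0 (7 * 0) = true := by decide +kernel
theorem pt31_1_chk : chkTab2 pc31 pt31_1 (7 * 1) = true := by decide +kernel
theorem pt31_2_chk : chkTab2 pc31 pt31_2 (7 * 2) = true := by decide +kernel
theorem pt31_3_chk : chkTab2 pc31 pt31_3 (7 * 3) = true := by decide +kernel
theorem pt31_4_chk : chkTab2 pc31 pt31_4 (7 * 4) = true := by decide +kernel
theorem pt31_5_chk : chkTab2 pc31 pt31_5 (7 * 5) = true := by decide +kernel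
theorem pt31_6_chk : chkTab2 pc31 pt31_6 (7 * 6) = true := by decide +kernel
theorem pt31_7_chk : chkTab2 pc31 pt31_7 (7 * 7) = true := by decide +kernel

theorem pt40_0_chk : chkTab2 pc40 pt40_0 (7 * 0) = true := by decide +kernel
theorem pt40_1_chk : chkTab2 pc40 pt40_1 (7 * 1) = true := by decide +kernel
theorem pt40_2_chk : chkTab2 pc40 pt40_2 (7 * 2) = true := by decide +kernel
theorem pt40_3_chk : chkTab2 pc40 pt40_3 (7 * 3) = true := by decide +kernel
theorem pt40_4_chk : chkTab2 pc40 pt40_4 (7 * 4) = true := by decide +kernel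
theorem pt40_5_chk : chkTab2 pc40 pt40_5 (7 * 5) = true := by decide +kernel
theorem pt40_6_chk : chkTab2 pc40 pt40_6 (7 * 6) = true := by decide +kernel
theorem pt40_7_chk : chkTab2 pc40 pt40_7 (7 * 7) = true := by decide +kernel

theorem pt46_0_chk : chkTab2 pc46 pt46_0 (7 * 0) = true := by decide +kernel
theorem pt46_1_chk : chkTab2 pc46 pt46_1 (7 * 1) = true := by decide +kernel
theorem pt46_2_chk : chkTab2 pc46 pt46_2 (7 * 2) = true := by decide +kernel
theorem pt46_3_chk : chkTab2 pc46 pt46_3 (7 * 3) = true := by decide +kernel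
theorem pt46_4_chk : chkTab2 pc46 pt46_4 (7 * 4) = true := by decide +kernel
theorem pt46_5_chk : chkTab2 pc46 pt46_5 (7 * 5) = true := by decide +kernel
theorem pt46_6_chk : chkTab2 pc46 pt46_6 (7 * 6) = true := by decide +kernel
theorem pt46_7_chk : chkTab2 pc46 pt46_7 (7 * 7) = true := by decide +kernel

end Cfsg.Agent.Lib.Helper18.Tits
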