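/-
helper18: involutions of 2F4(2), data: kernel checks of the tables, part 2. Generated.
-/
import Cfsg.Agent.Lib.Helper18.TitsU.Cols

set_option autoImplicit false
set_option maxRecDepth 1000000

namespace Cfsg.Agent.Lib.Helper18.Tits

theorem pt38_0_chk : chkTab2 pc38 pt38_0 (7 * 0) = true := by decide +kernel
theorem pt38_1_chk : chkTab2 pc38 pt38_1 (7 * 1) = true := by decide +kernel
theorem pt38_2_chk : chkTab2 pc38 pt38_2 (7 * 2) = true := by decide +kernel
theorem pt38_3_chk : chkTab2 pc38 pt38_3 (7 * 3) = true := by decide +kernel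
theorem pt38_4_chk : chkTab2 pc38 pt38_4 (7 * 4) = true := by decide +kernel
theorem pt38_5_chk : chkTab2 pc38 pt38_5 (7 * 5) = true := by decide +kernel
theorem pt38_6_chk : chkTab2 pc38 pt38_6 (7 * 6) = true := by decide +kernel
theorem pt38_7_chk : chkTab2 pc38 pt38_7 (7 * 7) = true := by decide +kernel

theorem pt43_0_chk : chkTab2 pc43 pt43_0 (7 * 0) = true := by decide +kernel
theorem pt43_1_chk : chkTab2 pc43 pt43_1 (7 * 1) = true := by decide +kernel
theorem pt43_2_chk : chkTab2 pc43 pt43_2 (7 * 2) = true := by decide +kernel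
theorem pt43_3_chk : chkTab2 pc43 pt43_3 (7 * 3) = true := by decide +kernel
theorem pt43_4_chk : chkTab2 pc43 pt43_4 (7 * 4) = true := by decide +kernel
theorem pt43_5_chk : chkTab2 pc43 pt43_5 (7 * 5) = true := by decide +kernel
theorem pt43_6_chk : chkTab2 pc43 pt43_6 (7 * 6) = true := by decide +kernel
theorem pt43_7_chk : chkTab2 pc43 pt43_7 (7 * 7) = true := by decide +kernel

theorem pt29_0_chk : chkTab2 pc29 pt29_0 (7 * 0) = true := by decide +kernel
theorem pt29_1_chk : chkTab2 pc29 pt29_1 (7 * 1) = true := by decide +kernel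
theorem pt29_2_chk : chkTab2 pc29 pt29_2 (7 * 2) = true := by decide +kernel
theorem pt29_3_chk : chkTab2 pc29 pt29_3 (7 * 3) = true := by decide +kernel
theorem pt29_4_chk : chkTab2 pc29 pt29_4 (7 * 4) = true := by decide +kernel
theorem pt29_5_chk : chkTab2 pc29 pt29_5 (7 * 5) = true := by decide +kernel
theorem pt29_6_chk : chkTab2 pc29 pt29_6 (7 * 6) = true := by decide +kernel
theorem pt29_7_chk : chkTab2 pc29 pt29_7 (7 * 7) = true := by decide +kernel

theorem pt41_0_chk : chkTab2 pc41 pt41_0 (7 * 0) = true := by decide +kernel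
theorem pt41_1_chk : chkTab2 pc41 pt41_1 (7 * 1) = true := by decide +kernel
theorem pt41_2_chk : chkTab2 pc41 pt41_2 (7 * 2) = true := by decide +kernel
theorem pt41_3_chk : chkTab2 pc41 pt41_3 (7 * 3) = true := by decide +kernel
theorem pt41_4_chk : chkTab2 pc41 pt41_4 (7 * 4) = true := by decide +kernel
theorem pt41_5_chk : chkTab2 pc41 pt41_5 (7 * 5) = true := by decide +kernel
theorem pt41_6_chk : chkTab2 pc41 pt41_6 (7 * 6) = true := by decide +kernel
theorem pt41_7_chk : chkTab2 pc41 pt41_7 (7 * 7) = true := by decide +kernel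

theorem pt44_0_chk : chkTab2 pc44 pt44_0 (7 * 0) = true := by decide +kernel
theorem pt44_1_chk : chkTab2 pc44 pt44_1 (7 * 1) = true := by decide +kernel
theorem pt44_2_chk : chkTab2 pc44 pt44_2 (7 * 2) = true := by decide +kernel
theorem pt44_3_chk : chkTab2 pc44 pt44_3 (7 * 3) = true := by decide +kernel
theorem pt44_4_chk : chkTab2 pc44 pt44_4 (7 * 4) = true := by decide +kernel
theorem pt44_5_chk : chkTab2 pc44 pt44_5 (7 * 5) = true := by decide +kernel
theorem pt44_6_chk : chkTab2 pc44 pt44_6 (7 * 6) = true := by decide +kernel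
theorem pt44_7_chk : chkTab2 pc44 pt44_7 (7 * 7) = true := by decide +kernel

theorem pt47_0_chk : chkTab2 pc47 pt47_0 (7 * 0) = true := by decide +kernel
theorem pt47_1_chk : chkTab2 pc47 pt47_1 (7 * 1) = true := by decide +kernel
theorem pt47_2_chk : chkTab2 pc47 pt47_2 (7 * 2) = true := by decide +kernel
theorem pt47_3_chk : chkTab2 pc47 pt47_3 (7 * 3) = true := by decide +kernel
theorem pt47_4_chk : chkTab2 pc47 pt47_4 (7 * 4) = true := by decide +kernel
theorem pt47_5_chk : chkTab2 pc47 pt47_5 (7 * 5) = true := by decide +kernel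
theorem pt47_6_chk : chkTab2 pc47 pt47_6 (7 * 6) = true := by decide +kernel
theorem pt47_7_chk : chkTab2 pc47 pt47_7 (7 * 7) = true := by decide +kernel

theorem pt39_0_chk : chkTab2 pc39 pt39_0 (7 * 0) = true := by decide +kernel
theorem pt39_1_chk : chkTab2 pc39 pt39_1 (7 * 1) = true := by decide +kernel
theorem pt39_2_chk : chkTab2 pc39 pt39_2 (7 * 2) = true := by decide +kernel
theorem pt39_3_chk : chkTab2 pc39 pt39_3 (7 * 3) = true := by decide +kernel
theorem pt39_4_chk : chkTab2 pc39 pt39_4 (7 * 4) = true := by decide +kernel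
theorem pt39_5_chk : chkTab2 pc39 pt39_5 (7 * 5) = true := by decide +kernel
theorem pt39_6_chk : chkTab2 pc39 pt39_6 (7 * 6) = true := by decide +kernel
theorem pt39_7_chk : chkTab2 pc39 pt39_7 (7 * 7) = true := by decide +kernel

theorem pt45_0_chk : chkTab2 pc45 pt45_0 (7 * 0) = true := by decide +kernel
theorem pt45_1_chk : chkTab2 pc45 pt45_1 (7 * 1) = true := by decide +kernel
theorem pt45_2_chk : chkTab2 pc45 pt45_2 (7 * 2) = true := by decide +kernel
theorem pt45_3_chk : chkTab2 pc45 pt45_3 (7 * 3) = true := by decide +kernel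
theorem pt45_4_chk : chkTab2 pc45 pt45_4 (7 * 4) = true := by decide +kernel
theorem pt45_5_chk : chkTab2 pc45 pt45_5 (7 * 5) = true := by decide +kernel
theorem pt45_6_chk : chkTab2 pc45 pt45_6 (7 * 6) = true := by decide +kernel
theorem pt45_7_chk : chkTab2 pc45 pt45_7 (7 * 7) = true := by decide +kernel

end Cfsg.Agent.Lib.Helper18.Tits
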