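/-
helper18: involutions of `²F₄(2)`, data part: a cheaper check of the tables of a matrix (by linearity), and the packed
action of words in the positive root elements.
-/
import Cfsg.Agent.Lib.Helper18.TitsData.Defs

set_option autoImplicit false

namespace Cfsg.Agent.Lib.Helper18.Tits

/-- The entry `u` of a table. -/
def tabEntry (T u : ℕ) : ℕ := Nat.land (Nat.shiftRight T (Nat.shiftLeft u 6)) 4503599627370495

/-- The table `T` for the bits from `s` agrees with the columns `cs`: the entries of the powers of two are computed,
the others are checked by linearity. -/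
def chkTab2 (cs : List ℕ) (T s : ℕ) : Bool :=
  Nat.beq (tabEntry T 0) 0 &&
  ((List.range 7).all fun b => Nat.beq (tabEntry T (Nat.shiftLeft 1 b)) (appCols cs (Nat.shiftLeft (Nat.shiftLeft 1 b) s))) &&
  ((List.range 7).all fun b => (List.range (Nat.shiftLeft 1 b)).all fun w =>
    Nat.beq (tabEntry T (Nat.xor (Nat.shiftLeft 1 b) w)) (Nat.xor (tabEntry T (Nat.shiftLeft 1 b)) (tabEntry T w)))

/-- Both values of a Boolean. -/
def allB (f : Bool → Bool) : Bool := f false && f true

end Cfsg.Agent.Lib.Helper18.Tits
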